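import Mathlib
import Cfsg.Agent.PSq.Arith
import Cfsg.Agent.Grp.Fitting
import Cfsg.Agent.Grp.Card
import Cfsg.Agent.Grp.MinNormal
import Cfsg.Agent.Grp.ConjCount
import Cfsg.Agent.Solv.CoprimeSylow
import Cfsg.Agent.S0204

/-! General lemmas and the standing hypothesis for groups of order dividing `|L₂(p²)|`. -/

set_option autoImplicit false
set_option linter.style.haveILetI false
set_option linter.unusedSectionVars false

namespace Cfsg.Agent.PSq

open Subgroup Cfsg Cfsg.Agent.Grp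

section General

variable {X : Type*} [Group X] [Finite X] {p : ℕ} [hp : Fact p.Prime]

/-- The orbit of `w` under conjugation by `A`. -/
def orb (A : Subgroup X) (w : X) : Set X := {y | ∃ a ∈ A, a * w * a⁻¹ = y}

omit [Finite X] in
theorem card_orb (A : Subgroup X) (w : X) :
    Nat.card (orb A w) * Nat.card (A ⊓ centralizer {w} : Subgroup X) = Nat.card A := by
  letI : MulAction A X := MulAction.compHom X (MulAut.conj.comp A.subtype : A →* MulAut X)
  have h1 : MulAction.orbit A w = orb A w := by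
    ext y
    constructor
    · rintro ⟨a, rfl⟩; exact ⟨a, a.2, rfl⟩
    · rintro ⟨a, ha, rfl⟩; exact ⟨⟨a, ha⟩, rfl⟩
  have h2 : MulAction.stabilizer A w = (A ⊓ centralizer {w}).subgroupOf A := by
    ext a
    rw [MulAction.mem_stabilizer_iff, mem_subgroupOf, mem_inf, mem_centralizer_singleton_iff]
    change (a : X) * w * (a : X)⁻¹ = w ↔ _
    rw [mul_inv_eq_iff_eq_mul]
    exact ⟨fun h => ⟨a.2, h⟩, fun h => h.2⟩
  have h3 := Nat.card_congr (MulAction.orbitProdStabilizerEquivGroup A w)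
  rw [Nat.card_prod, h1, h2, Nat.card_congr (subgroupOfEquivOfLe inf_le_left).toEquiv] at h3
  exact h3

theorem pgen (L : Subgroup X) [hL : L.Normal]
    (hmin : ∀ K : Subgroup X, K.Normal → K ≤ L → K = ⊥ ∨ K = L) (h : p ∣ Nat.card L)
    (S : Subgroup L) [S.Normal] (hS : ¬ p ∣ S.index) : S = ⊤ := by
  have hn : (closure {x : X | x ∈ L ∧ x ^ p = 1}).Normal := ⟨fun n hn g => by
    induction hn using closure_induction with
    | mem x hx => exact subset_closure ⟨hL.conj_mem x hx.1 g, by rw [conj_pow, hx.2]; simp⟩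
    | one => simp
    | mul x y _ _ hx hy => simpa [mul_assoc] using mul_mem hx hy
    | inv x _ hx => simpa [mul_assoc] using inv_mem hx⟩
  have hle : closure {x : X | x ∈ L ∧ x ^ p = 1} ≤ S.map L.subtype := by
    rw [closure_le]
    rintro x ⟨hx, hxp⟩
    refine ⟨⟨x, hx⟩, ?_, rfl⟩
    have h1 : orderOf (QuotientGroup.mk' S ⟨x, hx⟩) ∣ p := by
      rw [orderOf_dvd_iff_pow_eq_one, ← map_pow, show (⟨x, hx⟩ : L) ^ p = 1 from Subtype.ext hxp,
        map_one]
    rcases (Nat.dvd_prime hp.out).1 h1 with h2 | h2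
    · exact (QuotientGroup.eq_one_iff _).1 (orderOf_eq_one_iff.1 h2)
    · exact absurd (h2 ▸ orderOf_dvd_natCard _) hS
  rcases hmin _ hn (hle.trans (map_subtype_le S)) with h1 | h1
  · obtain ⟨x, hx⟩ := exists_prime_orderOf_dvd_card' p h
    have : (x : X) ∈ closure {x : X | x ∈ L ∧ x ^ p = 1} :=
      subset_closure ⟨x.2, by rw [← coe_pow, ← hx, pow_orderOf_eq_one, coe_one]⟩
    rw [h1, mem_bot, OneMemClass.coe_eq_one] at this
    rw [this, orderOf_one] at hx
    exact absurd hx hp.out.one_lt.ne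
  · rw [eq_top_iff]
    intro x _
    obtain ⟨y, hy, e⟩ := hle (h1.ge x.2)
    rwa [← show y = x from Subtype.ext e]

omit hp in
theorem dvd_of_normal (hpp : p.Prime) (hO : pPrimeCore p X = ⊥) (L : Subgroup X) [hL : L.Normal]
    (h0 : L ≠ ⊥) : p ∣ Nat.card L := by
  by_contra h
  exact h0 (le_bot_iff.1 (hO ▸ le_pPrimeCore hL ((hpp.coprime_iff_not_dvd.2 h).symm)))

omit hp in
theorem pPrimeCore_normal_bot (hO : pPrimeCore p X = ⊥) (L : Subgroup X) [L.Normal] :
    pPrimeCore p L = ⊥ := by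
  rw [pPrimeCore_eq_subgroupOf_of_normal, hO, bot_subgroupOf]

theorem simple_of_min (hO : pPrimeCore p X = ⊥) (L : Subgroup X) [hL : L.Normal] (h0 : L ≠ ⊥)
    (hmin : ∀ K : Subgroup X, K.Normal → K ≤ L → K = ⊥ ∨ K = L) (h : ¬ p ^ 2 ∣ Nat.card L) :
    IsSimpleGroup L := by
  haveI := (nontrivial_iff_ne_bot L).2 h0
  refine ⟨fun S hS => or_iff_not_imp_left.2 fun h1 => ?_⟩
  refine pgen L hmin (dvd_of_normal hp.out hO L h0) S fun h2 => h ?_
  rw [← S.card_mul_index, sq]
  exact mul_dvd_mul (dvd_of_normal hp.out (pPrimeCore_normal_bot hO L) S h1) h2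

theorem not_comm_of_simple (hO : pCore p X = ⊥) (L : Subgroup X) [hL : L.Normal] [IsSimpleGroup L]
    (h : p ∣ Nat.card L) : ¬ IsMulCommutative L := fun hc => by
  have h1 : (Nat.card L).Prime := by
    letI : CommGroup L := { (inferInstance : Group L) with mul_comm := hc.is_comm.comm }
    exact IsSimpleGroup.prime_card
  have h2 := (Nat.prime_dvd_prime_iff_eq hp.out h1).1 h
  have h3 : IsPGroup p L := IsPGroup.of_card (n := 1) (by rw [pow_one, h2])
  have h4 : L = ⊥ := le_bot_iff.1 (hO ▸ le_pCore hL h3)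
  rw [h4, card_bot] at h2
  exact hp.out.one_lt.ne' h2

/-- A simple subgroup normal in a normal subgroup. -/
theorem exists_simple (hO' : pPrimeCore p X = ⊥) (hO : pCore p X = ⊥)
    (h3 : ¬ p ^ 3 ∣ Nat.card X) (K : Subgroup X) [K.Normal] (hK : K ≠ ⊥) :
    ∃ M S : Subgroup X, M.Normal ∧ S ≤ M ∧ M ≤ K ∧ M ≤ normalizer (S : Set X) ∧
      IsSimpleGroup S ∧ ¬ IsMulCommutative S ∧ p ∣ Nat.card S ∧ (S = M ∨ p ^ 2 ∣ Nat.card M) := by
  obtain ⟨M, hM, h0, hle, hmin⟩ := exists_minNormal_le K hK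
  have hpM := dvd_of_normal hp.out hO' M h0
  by_cases h2 : p ^ 2 ∣ Nat.card M
  swap
  · haveI := simple_of_min hO' M h0 hmin h2
    exact ⟨M, M, hM, le_rfl, hle, le_normalizer, this, not_comm_of_simple hO M hpM, hpM, .inl rfl⟩
  haveI := (nontrivial_iff_ne_bot M).2 h0
  obtain ⟨S, hS, s0, smin⟩ := exists_minNormal M
  have oM := pPrimeCore_normal_bot hO' M
  have oM2 : pCore p M = ⊥ := by rw [pCore_eq_subgroupOf_of_normal, hO, bot_subgroupOf]
  have hpS := dvd_of_normal hp.out oM S s0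
  have hs : IsSimpleGroup S := by
    by_cases h4 : p ^ 2 ∣ Nat.card S
    · have h5 : S = ⊤ := pgen M hmin hpM S fun h6 => h3 (Dvd.dvd.trans (by
        rw [← S.card_mul_index, pow_succ]; exact mul_dvd_mul h4 h6) (card_subgroup_dvd_card M))
      subst h5
      have : IsSimpleGroup M := ⟨fun N hN => smin N hN le_top⟩
      exact topEquiv.isSimpleGroup
    · exact simple_of_min oM S s0 smin h4
  have e := S.equivMapOfInjective M.subtype M.subtype_injective
  refine ⟨M, S.map M.subtype, hM, map_subtype_le S, hle, ?_, e.symm.isSimpleGroup, fun hc => ?_,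
    by rwa [← Nat.card_congr e.toEquiv], .inr h2⟩
  · intro m hm
    rw [mem_normalizer_iff]
    intro x
    constructor
    · rintro ⟨y, hy, rfl⟩
      exact ⟨_, hS.conj_mem y hy ⟨m, hm⟩, rfl⟩
    · rintro ⟨y, hy, e⟩
      refine ⟨_, hS.conj_mem y hy ⟨m, hm⟩⁻¹, ?_⟩
      simp only [coe_subtype, coe_mul, InvMemClass.coe_inv, inv_inv] at e ⊢
      rw [e]; group
  · refine not_comm_of_simple oM2 S hpS ⟨⟨fun a b => e.injective ?_⟩⟩
    rw [map_mul, map_mul, hc.is_comm.comm]

omit hp in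
theorem four_dvd_simple [IsSimpleGroup X] (h : ¬ IsMulCommutative X) : 4 ∣ Nat.card X := by
  obtain ⟨E, hE⟩ := S0204.result (G := X) fun h' => h IsCyclic.isMulCommutative
  rw [← hE.card_four]
  exact card_subgroup_dvd_card E

theorem pPrimeCore_quot_central (hO : pPrimeCore p X = ⊥) (Z : Subgroup X) [Z.Normal]
    (hZ : Z ≤ center X) (hZp : IsPGroup p Z) : pPrimeCore p (X ⧸ Z) = ⊥ := by
  set K := (pPrimeCore p (X ⧸ Z)).comap (QuotientGroup.mk' Z) with hK
  have hZK : Z ≤ K := fun z hz => by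
    rw [hK, mem_comap, show QuotientGroup.mk' Z z = 1 from (QuotientGroup.eq_one_iff z).2 hz]
    exact one_mem _
  have c1 : Nat.card K = Nat.card (pPrimeCore p (X ⧸ Z)) * Nat.card Z := card_comap_mk' Z _
  have c2 : Nat.card (Z.subgroupOf K) = Nat.card Z :=
    Nat.card_congr (subgroupOfEquivOfLe hZK).toEquiv
  have c3 : (Z.subgroupOf K).index = Nat.card (pPrimeCore p (X ⧸ Z)) := by
    have := (Z.subgroupOf K).card_mul_index
    rw [c1, c2, mul_comm] at this
    exact Nat.eq_of_mul_eq_mul_right Nat.card_pos this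
  obtain ⟨n, hn⟩ := IsPGroup.iff_card.1 hZp
  obtain ⟨U, hU⟩ := exists_right_complement'_of_coprime (N := Z.subgroupOf K) (by
    rw [c2, c3, hn]; exact (pPrimeCore_coprime p _).symm.pow_left n)
  have hUn : U.Normal := ⟨fun u hu g => by
    obtain ⟨⟨z, v⟩, rfl⟩ := hU.2 g
    have hz : ∀ y : K, (z : K) * y = y * z := fun y =>
      Subtype.ext (mem_center_iff.1 (hZ z.2) y).symm
    simp only
    rw [show (z : K) * v * u * ((z : K) * v)⁻¹ = z * (v * u * (v : K)⁻¹) * (z : K)⁻¹ by group, hz,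
      mul_inv_cancel_right]
    exact mul_mem (mul_mem v.2 hu) (inv_mem v.2)⟩
  have c4 : Nat.card U = Nat.card (pPrimeCore p (X ⧸ Z)) := by rw [← c3, hU.symm.index_eq_card]
  have h1 : U ≤ pPrimeCore p K := le_pPrimeCore hUn (c4 ▸ pPrimeCore_coprime p _)
  rw [pPrimeCore_normal_bot hO K, le_bot_iff] at h1
  rw [h1, card_bot] at c4
  exact card_eq_one.1 c4.symm

end General

/-- The standing hypothesis. -/
structure Hyp {H : Type*} [Group H] {p : ℕ} (M : ℕ) (P : Sylow p H) : Prop where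
  h5 : 5 < p
  hM : 2 * M + 1 = p ^ 2
  dvd : Nat.card H ∣ p ^ 2 * (M * (p ^ 2 + 1))
  cP : Nat.card (P : Subgroup H) = p ^ 2
  cent : centralizer ((P : Subgroup H) : Set H) ≤ P
  core : pCore p H = ⊥

variable {H : Type*} [Group H] [Finite H] {p M : ℕ} [hp : Fact p.Prime] {P : Sylow p H}

namespace Hyp

variable (h : Hyp M P)
include h

theorem conj (Q : Sylow p H) : Hyp M Q := by
  obtain ⟨g, rfl⟩ := MulAction.exists_smul_eq H P Q
  refine ⟨h.h5, h.hM, h.dvd, by rw [← h.cP]; exact (Nat.card_congr (Sylow.equiv P _).toEquiv).symm,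
    fun x hx => ?_, h.core⟩
  rw [Sylow.coe_subgroup_smul, Grp.mem_conj_smul_iff]
  refine h.cent (mem_centralizer_iff.2 fun y hy => ?_)
  have := mem_centralizer_iff.1 hx (g * y * g⁻¹) (by
    rw [SetLike.mem_coe, Sylow.coe_subgroup_smul, Grp.mem_conj_smul_iff]; simpa [mul_assoc])
  calc y * (g⁻¹ * x * g) = g⁻¹ * (g * y * g⁻¹ * x) * g := by group
    _ = g⁻¹ * (x * (g * y * g⁻¹)) * g := by rw [this]
    _ = _ := by group

omit [Finite H] in
theorem comm {x y : H} (hx : x ∈ (P : Subgroup H)) (hy : y ∈ (P : Subgroup H)) : x * y = y * x :=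
  congrArg Subtype.val ((IsPGroup.isMulCommutative_of_card_eq_prime_sq h.cP).is_comm.comm
    ⟨x, hx⟩ ⟨y, hy⟩)

omit [Finite H] in
theorem not_cube : ¬ p ^ 3 ∣ Nat.card H := fun h3 => by
  have := h3.trans h.dvd
  rw [pow_succ] at this
  exact not_dvd_rest hp.out h.hM (Nat.dvd_of_mul_dvd_mul_left (pow_pos hp.out.pos 2) this)

omit [Finite H] in
theorem bot_of_normal (N : Subgroup H) (hN : N.Normal) (hp' : IsPGroup p N) : N = ⊥ :=
  le_bot_iff.1 (h.core ▸ le_pCore hN hp')

/-- A nontrivial `P`-invariant `p'`-subgroup has order `p + 1 = 2 ^ r`. -/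
theorem inv_card {V : Subgroup H} (hV : (P : Subgroup H) ≤ normalizer (V : Set H)) (h0 : V ≠ ⊥)
    (hc : ¬ p ∣ Nat.card V) : Nat.card V = p + 1 ∧ ∃ r, 2 ^ r = p + 1 := by
  have key : ∀ r : ℕ, r.Prime → r ∣ Nat.card V →
      r = 2 ∧ r ^ (Nat.card V).factorization r = p + 1 := fun r hr hrV => by
    haveI := Fact.mk hr
    haveI := P.isPGroup'.isNilpotent
    obtain ⟨R, hR⟩ := Solv.exists_invariant_sylow (P : Subgroup H) V hV (by
      rw [h.cP]; exact ((hp.out.coprime_iff_not_dvd).2 hc).pow_left 2) (.inl inferInstance) r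
    set R' := (R : Subgroup V).map V.subtype with hR'
    have c1 : Nat.card R' = r ^ (Nat.card V).factorization r := by
      rw [hR', card_map_of_injective V.subtype_injective, R.card_eq_multiplicity]
    have c2 := ConjCount.card_modEq P.isPGroup' (R' : Set H) fun g hg x hx =>
      (mem_normalizer_iff.1 (hR hg) x).1 hx
    have c3 : Nat.card {x : H // x ∈ (R' : Set H) ∧ x ∈ centralizer ((P : Subgroup H) : Set H)} = 1 := by
      rw [Nat.card_eq_one_iff_exists]
      refine ⟨⟨1, one_mem R', one_mem _⟩, fun x => Subtype.ext ?_⟩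
      have := inf_eq_bot_of_isPGroup_of_coprime P.isPGroup' (K := V)
        ((hp.out.coprime_iff_not_dvd.2 hc).symm)
      exact (mem_bot.1 (this ▸ mem_inf.2 ⟨h.cent x.2.2, map_subtype_le _ x.2.1⟩))
    rw [c3] at c2
    have c4 : Nat.card (R' : Set H) = Nat.card R' := rfl
    rw [c4, c1] at c2
    refine prime_pow_eq hp.out h.h5 h.hM hr ?_ ?_ c2
    · exact (Nat.ordProj_dvd _ r).trans ((card_subgroup_dvd_card V).trans h.dvd)
    · have := hr.factorization_pos_of_dvd Nat.card_pos.ne' hrV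
      exact (Nat.one_lt_pow this.ne' hr.one_lt).ne'
  have h1 : Nat.card V ≠ 1 := fun e => h0 (card_eq_one.1 e)
  have h2 := Nat.eq_prime_pow_of_unique_prime_dvd (n := Nat.card V) (p := 2) Nat.card_pos.ne'
    fun {d} hd hdV => (key d hd hdV).1
  obtain ⟨r, hr, hrV⟩ := Nat.exists_prime_and_dvd h1
  obtain ⟨rfl, h3⟩ := key r hr hrV
  have h4 : Nat.card V = p + 1 := by
    rw [← h3]
    generalize (Nat.card V).primeFactorsList.length = k at h2
    rw [h2, Nat.prime_two.factorization_pow, Finsupp.single_eq_same]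
  exact ⟨h4, _, h3⟩

end Hyp

end Cfsg.Agent.PSq
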